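import Groth.Prelude.Def_LefPen
import Mathlib.AlgebraicGeometry.Morphisms.UniversallyClosed
import Mathlib.AlgebraicGeometry.PullbackCarrier
import Mathlib.LinearAlgebra.FreeModule.Finite.Basic

/-!
# Zariski openness in a vector space of conditions on all points of a proper scheme

`isZOpen_forall_exists`: `X → Spec k` universally closed, `V` a finite-dimensional `k`-space, `φ a v ∈ Γ(X, U a)`
depending polynomially on `v ∈ V`.  Then the set of `v ∈ V` such that at every point `x` of `X` one of the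
sections `φ a v` (with `x ∈ U a`) does not vanish is Zariski open in `V`.
-/

set_option autoImplicit false

universe u

open CategoryTheory CategoryTheory.Limits AlgebraicGeometry

namespace Groth.Agent.Lefpen.H727.Compact

section PolyFun

variable {k : Type u} [Field k] {V : Type u} [AddCommGroup V] [Module k V]

/-- Evaluation of a polynomial at the coordinates of a vector. -/
noncomputable def ev {ι : Type} (b : Module.Basis ι k V) (v : V) : MvPolynomial ι k →ₐ[k] k :=
  MvPolynomial.aeval (fun i => b.repr v i)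

theorem isPolyFun_const (c : k) : LefPen.IsPolyFun k (fun _ : V => c) :=
  Subalgebra.algebraMap_mem _ c

theorem isPolyFun_dual (l : Module.Dual k V) : LefPen.IsPolyFun k (fun v : V => l v) :=
  Algebra.subset_adjoin ⟨l, rfl⟩

theorem isPolyFun_ev {ι : Type} (b : Module.Basis ι k V) (P : MvPolynomial ι k) :
    LefPen.IsPolyFun k (fun v => ev b v P) := by
  induction P using MvPolynomial.induction_on with
  | C a => simpa [ev] using! isPolyFun_const (V := V) a
  | add p q hp hq =>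
    have := Subalgebra.add_mem _ hp hq
    simpa using! this
  | mul_X p i hp =>
    have := Subalgebra.mul_mem _ hp (isPolyFun_dual (b.coord i))
    simpa [ev] using! this

theorem exists_ev {ι : Type} [Finite ι] (b : Module.Basis ι k V) {f : V → k} (hf : LefPen.IsPolyFun k f) :
    ∃ P : MvPolynomial ι k, ∀ v, f v = ev b v P := by
  have := Fintype.ofFinite ι
  induction hf using Algebra.adjoin_induction with
  | mem x hx =>
    obtain ⟨l, rfl⟩ := hx
    refine ⟨∑ i, MvPolynomial.C (l (b i)) * MvPolynomial.X i, fun v => ?_⟩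
    simp only [ev, map_sum, map_mul, MvPolynomial.aeval_C, MvPolynomial.aeval_X, Algebra.algebraMap_self,
      RingHom.id_apply]
    conv_lhs => rw [← b.sum_repr v, map_sum]
    exact Finset.sum_congr rfl fun i _ => by rw [map_smul, smul_eq_mul, mul_comm]
  | algebraMap r => exact ⟨MvPolynomial.C r, fun v => by simp [ev]⟩
  | add x y _ _ hx hy =>
    obtain ⟨P, hP⟩ := hx
    obtain ⟨Q, hQ⟩ := hy
    exact ⟨P + Q, fun v => by simp [hP, hQ]⟩
  | mul x y _ _ hx hy =>
    obtain ⟨P, hP⟩ := hx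
    obtain ⟨Q, hQ⟩ := hy
    exact ⟨P * Q, fun v => by simp [hP, hQ]⟩

end PolyFun

section Cst

/-- The constants in the sections over an open of a scheme over `Spec A`, as a morphism of rings. -/
noncomputable def cstHom {A : Type u} [CommRing A] {X : Scheme.{u}} (f : X ⟶ Spec (CommRingCat.of A))
    (U : X.Opens) : CommRingCat.of A ⟶ Γ(X, U) :=
  (Scheme.ΓSpecIso (CommRingCat.of A)).inv ≫ f.appTop ≫ X.presheaf.map (homOfLE (le_top : U ≤ ⊤)).op

/-- The constants in the sections over an open of a scheme over `Spec A`. -/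
noncomputable def cst {A : Type u} [CommRing A] {X : Scheme.{u}} (f : X ⟶ Spec (CommRingCat.of A)) (U : X.Opens) :
    A →+* Γ(X, U) :=
  (cstHom f U).hom

variable {A B : Type u} [CommRing A] [CommRing B] {X Y : Scheme.{u}}

theorem cstHom_res (f : X ⟶ Spec (CommRingCat.of A)) {U W : X.Opens} (h : U ≤ W) :
    cstHom f W ≫ X.presheaf.map (homOfLE h).op = cstHom f U := by
  simp only [cstHom, Category.assoc, ← Functor.map_comp]
  rfl

theorem cst_res (f : X ⟶ Spec (CommRingCat.of A)) {U W : X.Opens} (h : U ≤ W) (a : A) :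
    (X.presheaf.map (homOfLE h).op).hom (cst f W a) = cst f U a :=
  congrArg (fun φ => φ.hom a) (cstHom_res f h)

theorem cstHom_appLE (g : Y ⟶ X) (f : X ⟶ Spec (CommRingCat.of A)) (W : X.Opens) (U : Y.Opens) (e : U ≤ g ⁻¹ᵁ W) :
    cstHom f W ≫ g.appLE W U e = cstHom (g ≫ f) U := by
  simp only [cstHom, Category.assoc, Scheme.Hom.comp_appTop]
  congr 2
  rw [Scheme.Hom.map_appLE, Scheme.Hom.appLE]
  rfl

theorem appLE_cst (g : Y ⟶ X) (f : X ⟶ Spec (CommRingCat.of A)) (W : X.Opens) (U : Y.Opens) (e : U ≤ g ⁻¹ᵁ W)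
    (a : A) : (g.appLE W U e).hom (cst f W a) = cst (g ≫ f) U a :=
  congrArg (fun φ => φ.hom a) (cstHom_appLE g f W U e)

theorem appLE_eq_id (g : X ⟶ X) (hg : g = 𝟙 X) (U : X.Opens) (h : U ≤ g ⁻¹ᵁ U) : g.appLE U U h = 𝟙 _ := by
  subst hg
  rw [Scheme.Hom.appLE, Scheme.Hom.id_app]
  change 𝟙 _ ≫ X.presheaf.map (𝟙 _) = _
  rw [X.presheaf.map_id]
  rfl

theorem cstHom_comp_specMap (f : X ⟶ Spec (CommRingCat.of A)) (φ : B →+* A) (U : X.Opens) :
    cstHom (f ≫ Spec.map (CommRingCat.ofHom φ)) U = CommRingCat.ofHom φ ≫ cstHom f U := by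
  simp only [cstHom, Scheme.Hom.comp_appTop, Category.assoc]
  rw [← Scheme.ΓSpecIso_inv_naturality_assoc]

theorem cst_comp_specMap (f : X ⟶ Spec (CommRingCat.of A)) (φ : B →+* A) (U : X.Opens) (b : B) :
    cst (f ≫ Spec.map (CommRingCat.ofHom φ)) U b = cst f U (φ b) :=
  congrArg (fun φ => φ.hom b) (cstHom_comp_specMap f φ U)

end Cst

section Main

variable {k : Type u} [Field k] {V : Type u} [AddCommGroup V] [Module k V] {X : Scheme.{u}}
  (f : X ⟶ Spec (CommRingCat.of k))

/-- A map from `V` to the sections of `X` over `U` which is given by finitely many polynomial functions. -/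
def IsPolySec {U : X.Opens} (φ : V → Γ(X, U)) : Prop :=
  ∃ (m : ℕ) (p : Fin m → V → k) (a : Fin m → Γ(X, U)), (∀ l, LefPen.IsPolyFun k (p l)) ∧
    ∀ v, φ v = ∑ l, cst f U (p l v) * a l

theorem IsPolySec.of_fintype {U : X.Opens} {φ : V → Γ(X, U)} {ι : Type*} [Fintype ι] (p : ι → V → k)
    (a : ι → Γ(X, U)) (hp : ∀ l, LefPen.IsPolyFun k (p l)) (h : ∀ v, φ v = ∑ l, cst f U (p l v) * a l) :
    IsPolySec f φ := by
  let e := Fintype.equivFin ι
  refine ⟨Fintype.card ι, fun l => p (e.symm l), fun l => a (e.symm l), fun l => hp _, fun v => ?_⟩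
  rw [h v]
  exact (e.symm.sum_comp (fun l => cst f U (p l v) * a l)).symm

theorem IsPolySec.const {U : X.Opens} (a : Γ(X, U)) : IsPolySec f (fun _ : V => a) :=
  IsPolySec.of_fintype (ι := Unit) f (fun _ _ => 1) (fun _ => a) (fun _ => isPolyFun_const 1) (by simp)

theorem IsPolySec.polyFun {U : X.Opens} {p : V → k} (hp : LefPen.IsPolyFun k p) :
    IsPolySec f (fun v : V => cst f U (p v)) :=
  IsPolySec.of_fintype (ι := Unit) f (fun _ => p) (fun _ => 1) (fun _ => hp) (by simp)

variable {f} in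
theorem IsPolySec.add {U : X.Opens} {φ ψ : V → Γ(X, U)} (hφ : IsPolySec f φ) (hψ : IsPolySec f ψ) :
    IsPolySec f (fun v => φ v + ψ v) := by
  obtain ⟨m, p, a, hp, hpa⟩ := hφ
  obtain ⟨m', p', a', hp', hpa'⟩ := hψ
  refine IsPolySec.of_fintype (ι := Fin m ⊕ Fin m') f (Sum.elim p p') (Sum.elim a a') ?_ fun v => ?_
  · rintro (l | l)
    · exact hp l
    · exact hp' l
  · simp [hpa v, hpa' v]

variable {f} in
theorem IsPolySec.mul {U : X.Opens} {φ ψ : V → Γ(X, U)} (hφ : IsPolySec f φ) (hψ : IsPolySec f ψ) :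
    IsPolySec f (fun v => φ v * ψ v) := by
  obtain ⟨m, p, a, hp, hpa⟩ := hφ
  obtain ⟨m', p', a', hp', hpa'⟩ := hψ
  refine IsPolySec.of_fintype (ι := Fin m × Fin m') f (fun l v => p l.1 v * p' l.2 v)
    (fun l => a l.1 * a' l.2) (fun l => Subalgebra.mul_mem _ (hp l.1) (hp' l.2)) fun v => ?_
  rw [hpa v, hpa' v, Finset.sum_mul_sum, ← Finset.sum_product', Finset.univ_product_univ]
  refine Finset.sum_congr rfl fun l _ => ?_
  rw [map_mul]
  ring

variable {f} in
theorem IsPolySec.sum {U : X.Opens} {σ : Type*} (t : Finset σ) {φ : σ → V → Γ(X, U)}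
    (hφ : ∀ l ∈ t, IsPolySec f (φ l)) : IsPolySec f (fun v => ∑ l ∈ t, φ l v) := by
  classical
  induction t using Finset.induction_on with
  | empty => simpa using IsPolySec.const f (V := V) (0 : Γ(X, U))
  | insert a t ha ih =>
    simp only [Finset.sum_insert ha]
    exact (hφ a (Finset.mem_insert_self a t)).add (ih fun l hl => hφ l (Finset.mem_insert_of_mem hl))

variable {f} in
theorem IsPolySec.of_forall_eq {U : X.Opens} {φ ψ : V → Γ(X, U)} (hφ : IsPolySec f φ) (h : ∀ v, ψ v = φ v) :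
    IsPolySec f ψ := (funext h : ψ = φ) ▸ hφ

/-- An additive map `V → Γ(X, U)`, `k`-linear for the constants. -/
theorem IsPolySec.of_linear [FiniteDimensional k V] {U : X.Opens} {φ : V → Γ(X, U)}
    (hadd : ∀ v w, φ (v + w) = φ v + φ w) (hsmul : ∀ (c : k) (v : V), φ (c • v) = cst f U c * φ v) :
    IsPolySec f φ := by
  let b := Module.finBasis k V
  refine ⟨_, fun l v => b.coord l v, fun l => φ (b l), fun l => isPolyFun_dual (b.coord l), fun v => ?_⟩
  let φ' : V →+ Γ(X, U) := AddMonoidHom.mk' φ hadd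
  have h1 : φ v = φ' (∑ l, b.repr v l • b l) := by rw [b.sum_repr]; rfl
  rw [h1, map_sum]
  exact Finset.sum_congr rfl fun l _ => hsmul _ _

variable {f} in
/-- Composition with a ring homomorphism compatible with the constants (e.g. a restriction map). -/
theorem IsPolySec.map {Y : Scheme.{u}} {g : Y ⟶ Spec (CommRingCat.of k)} {U : X.Opens} {W : Y.Opens}
    {φ : V → Γ(X, U)} (hφ : IsPolySec f φ) (ρ : Γ(X, U) →+* Γ(Y, W)) (hρ : ∀ c, ρ (cst f U c) = cst g W c) :
    IsPolySec g (fun v => ρ (φ v)) := by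
  obtain ⟨m, p, a, hp, hpa⟩ := hφ
  exact ⟨m, p, fun l => ρ (a l), hp, fun v => by simp [hpa v, hρ]⟩

variable [FiniteDimensional k V]

theorem isZOpen_forall_exists [UniversallyClosed f] {ι : Type*} (U : ι → X.Opens) (φ : ∀ a : ι, V → Γ(X, U a))
    (hφ : ∀ a, IsPolySec f (φ a)) :
    LefPen.IsZOpen k {v : V | ∀ x : X, ∃ a, x ∈ X.basicOpen (φ a v)} := by
  classical
  let b := Module.finBasis k V
  let R : Type u := MvPolynomial (Fin (Module.finrank k V)) k
  let C : k →+* R := MvPolynomial.C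
  let p₁ : pullback f (Spec.map (CommRingCat.ofHom C)) ⟶ X := pullback.fst _ _
  let p₂ : pullback f (Spec.map (CommRingCat.ofHom C)) ⟶ Spec (CommRingCat.of R) := pullback.snd _ _
  have hC (v : V) : (ev b v : R →+* k).comp C = RingHom.id k := by
    ext c
    change ev b v (MvPolynomial.C c) = c
    simp [ev]
  let e (v : V) : Spec (CommRingCat.of k) ⟶ Spec (CommRingCat.of R) :=
    Spec.map (CommRingCat.ofHom (ev b v : R →+* k))
  have he (v : V) : e v ≫ Spec.map (CommRingCat.ofHom C) = 𝟙 _ := by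
    rw [← Spec.map_comp, ← CommRingCat.ofHom_comp, hC, CommRingCat.ofHom_id, Spec.map_id]
  let s (v : V) : X ⟶ pullback f (Spec.map (CommRingCat.ofHom C)) :=
    pullback.lift (𝟙 X) (f ≫ e v) (by rw [Category.assoc, he]; simp)
  have hs1 (v : V) : s v ≫ p₁ = 𝟙 X := pullback.lift_fst _ _ _
  have hs2 (v : V) : s v ≫ p₂ = f ≫ e v := pullback.lift_snd _ _ _
  choose m p a hp ha using hφ
  choose P hP using fun (c : ι) (l : Fin (m c)) => exists_ev b (hp c l)
  let Φ (c : ι) : Γ(pullback f (Spec.map (CommRingCat.ofHom C)), p₁ ⁻¹ᵁ U c) :=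
    ∑ l, cst p₂ (p₁ ⁻¹ᵁ U c) (P c l) * (p₁.app (U c)).hom (a c l)
  have hle (v : V) (c : ι) : U c ≤ s v ⁻¹ᵁ (p₁ ⁻¹ᵁ U c) := by
    rw [← Scheme.Hom.comp_preimage, hs1]
    exact le_rfl
  have hΦ (v : V) (c : ι) : ((s v).appLE (p₁ ⁻¹ᵁ U c) (U c) (hle v c)).hom (Φ c) = φ c v := by
    rw [ha c v, map_sum]
    refine Finset.sum_congr rfl fun l _ => ?_
    rw [map_mul]
    congr 1
    · rw [appLE_cst, hs2]
      change cst (f ≫ Spec.map (CommRingCat.ofHom (ev b v : R →+* k))) _ _ = _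
      rw [cst_comp_specMap, hP c l v]
      rfl
    · change (p₁.app (U c) ≫ (s v).appLE _ _ _).hom _ = _
      rw [← Scheme.Hom.comp_appLE]
      rw [appLE_eq_id _ (hs1 v)]
      rfl
  let O : (pullback f (Spec.map (CommRingCat.ofHom C))).Opens := ⨆ c, (Scheme.basicOpen _ (Φ c))
  have hO (v : V) (x : X) : s v x ∈ O ↔ ∃ c, x ∈ X.basicOpen (φ c v) := by
    simp only [O, TopologicalSpace.Opens.mem_iSup]
    refine exists_congr fun c => ?_
    rw [← hΦ v c, Scheme.basicOpen_appLE]
    refine ⟨fun h => ⟨?_, h⟩, fun h => h.2⟩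
    have h1 : s v x ∈ p₁ ⁻¹ᵁ U c := Scheme.basicOpen_le _ _ h
    change (s v ≫ p₁) x ∈ U c at h1
    rwa [hs1] at h1
  have hpb (v : V) : IsPullback (s v) f p₂ (e v) := by
    refine IsPullback.of_right (h₁₂ := p₁) (h₂₂ := Spec.map (CommRingCat.ofHom C)) (v₁₃ := f) ?_ (hs2 v)
      (IsPullback.of_hasPullback _ _)
    rw [hs1, he]
    exact IsPullback.of_id_fst
  have hcl : IsClosed (p₂ '' (O : Set _)ᶜ) := p₂.isClosedMap _ O.isOpen.isClosed_compl
  obtain ⟨I, hI⟩ := (PrimeSpectrum.isClosed_iff_zeroLocus (R := R) (p₂ '' (O : Set _)ᶜ)).1 hcl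
  let pt : Spec (CommRingCat.of k) := (⊥ : PrimeSpectrum k)
  have hev (v : V) (r : R) : r ∈ (e v pt : PrimeSpectrum R).asIdeal ↔ ev b v r = 0 := by
    change (ev b v : R →+* k) r ∈ (⊥ : Ideal k) ↔ _
    exact Ideal.mem_bot
  have hmem (v : V) : (e v pt : PrimeSpectrum R) ∈ PrimeSpectrum.zeroLocus I ↔ ∃ x : X, s v x ∉ O := by
    rw [← hI]
    constructor
    · rintro ⟨z, hz, hz2⟩
      obtain ⟨x, hx, -⟩ := Scheme.exists_preimage_of_isPullback (hpb v) z pt hz2
      exact ⟨x, by rw [show s v x = z from hx]; exact hz⟩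
    · rintro ⟨x, hx⟩
      refine ⟨s v x, hx, ?_⟩
      change (s v ≫ p₂) x = e v pt
      rw [hs2]
      change e v (f x) = e v pt
      congr 1
      exact Subsingleton.elim (α := PrimeSpectrum k) _ _
  intro v hv
  have hv' : ¬ ((e v pt : PrimeSpectrum R) ∈ PrimeSpectrum.zeroLocus I) := by
    rw [hmem]
    push Not
    intro x
    rw [hO]
    exact hv x
  obtain ⟨r, hrI, hr⟩ := Set.not_subset.1
    (show ¬ (I ⊆ ((e v pt : PrimeSpectrum R).asIdeal : Set R)) from hv')
  refine ⟨fun v => ev b v r, isPolyFun_ev b r, fun h => hr ((hev v r).2 h), fun w hw => ?_⟩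
  have hw' : ¬ ((e w pt : PrimeSpectrum R) ∈ PrimeSpectrum.zeroLocus I) := fun h =>
    hw ((hev w r).1 (h hrI))
  rw [hmem] at hw'
  push Not at hw'
  intro x
  rw [← hO]
  exact hw' x

end Main

end Groth.Agent.Lefpen.H727.Compact
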