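import Groth.Agent.Lefpen.H727.Compact
import Mathlib.RingTheory.Smooth.Basic
import Mathlib.RingTheory.Kaehler.Basic
import Mathlib.Algebra.MvPolynomial.Derivation

/-!
# Local sections of the bundle of tangent hypersurfaces

`A` a smooth `k`-algebra generated by `x_0, …, x_r` with `x_j = 1`.  The forms `H` of degree `d ≥ 1` whose equation
`H(x)` vanishes to order two at a rational point `ε : A → k` form a linear subspace `Σ_ε` of the space of forms; the
theorem `exists_section` says that a polynomial function not vanishing at some element of `Σ_{ε₀}` does not vanish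
identically on `Σ_ε` for `ε` in a neighbourhood of `ε₀`.
-/

set_option autoImplicit false
universe u

namespace Groth.Agent.Lefpen.H727.Section

open LefPen Compact KaehlerDifferential

section coords

variable {k A : Type u} [Field k] [CommRing A] [Algebra k A] {ι : Type} [Fintype ι] (x : ι → A)

theorem span_D_eq_top (hgen : Algebra.adjoin k (Set.range x) = ⊤) :
    Submodule.span A (Set.range fun l => D k A (x l)) = ⊤ := by
  rw [eq_top_iff, ← KaehlerDifferential.span_range_derivation, Submodule.span_le]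
  rintro _ ⟨a, rfl⟩
  have ha : a ∈ Algebra.adjoin k (Set.range x) := by rw [hgen]; trivial
  induction ha using Algebra.adjoin_induction with
  | mem a ha =>
    obtain ⟨l, rfl⟩ := ha
    exact Submodule.subset_span ⟨l, rfl⟩
  | algebraMap c =>
    rw [Derivation.map_algebraMap]
    exact Submodule.zero_mem _
  | add a b _ _ ha hb => rw [map_add]; exact Submodule.add_mem _ ha hb
  | mul a b _ _ ha hb =>
    rw [Derivation.leibniz]
    exact Submodule.add_mem _ (Submodule.smul_mem _ _ hb) (Submodule.smul_mem _ _ ha)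

/-- Derivations `D_l` with `d a = ∑ D_l(a) d x_l`. -/
theorem exists_derivations (hgen : Algebra.adjoin k (Set.range x) = ⊤) [Module.Projective A Ω[A⁄k]] :
    ∃ E : ι → Derivation k A A, ∀ (D' : Derivation k A A) (a : A), D' a = ∑ l, E l a * D' (x l) := by
  classical
  let φ : (ι → A) →ₗ[A] Ω[A⁄k] := Fintype.linearCombination A (fun l => D k A (x l))
  have hφ : Function.Surjective φ := by
    rw [← LinearMap.range_eq_top, Fintype.range_linearCombination]
    exact span_D_eq_top x hgen
  obtain ⟨σ, hσ⟩ := Module.projective_lifting_property φ LinearMap.id hφ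
  refine ⟨fun l => ((LinearMap.proj l).comp σ).compDer (D k A), fun D' a => ?_⟩
  have h1 : D k A a = ∑ l, (σ (D k A a)) l • D k A (x l) := by
    have := DFunLike.congr_fun hσ (D k A a)
    rw [LinearMap.comp_apply, Fintype.linearCombination_apply, LinearMap.id_apply] at this
    exact this.symm
  have h2 := congrArg D'.liftKaehlerDifferential h1
  rw [D'.liftKaehlerDifferential_comp_D, map_sum] at h2
  rw [h2]
  refine Finset.sum_congr rfl fun l _ => ?_
  rw [map_smul, D'.liftKaehlerDifferential_comp_D, smul_eq_mul]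
  rfl

end coords

variable {r : ℕ} {k A : Type u} [Field k] [CommRing A] [Algebra k A] {d : ℕ} (x : Fin (r + 1) → A)

/-- The equation of a form in the affine coordinates `x`. -/
noncomputable def eqA (H : Form r k d) : A := MvPolynomial.aeval x H.1

theorem eqA_sub (H H' : Form r k d) : eqA x (H - H') = eqA x H - eqA x H' := by
  simp [eqA]

theorem eqA_smul (c : k) (H : Form r k d) : eqA x (c • H) = c • eqA x H := by
  simp [eqA]

theorem eqA_sum {ι : Type*} (s : Finset ι) (H : ι → Form r k d) : eqA x (∑ l ∈ s, H l) = ∑ l ∈ s, eqA x (H l) := by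
  simp [eqA]

/-- The form `T_j^d`. -/
noncomputable def pw (j : Fin (r + 1)) (d : ℕ) : Form r k d :=
  ⟨MvPolynomial.X j ^ d, by
    have := (MvPolynomial.isHomogeneous_X k j).pow d
    rw [one_mul] at this
    exact (MvPolynomial.mem_homogeneousSubmodule d _).mpr this⟩

/-- The form `T_j^(d-1) T_l`. -/
noncomputable def pwl (j l : Fin (r + 1)) (d : ℕ) (hd : 1 ≤ d) : Form r k d :=
  ⟨MvPolynomial.X j ^ (d - 1) * MvPolynomial.X l, by
    have := ((MvPolynomial.isHomogeneous_X k j).pow (d - 1)).mul (MvPolynomial.isHomogeneous_X k l)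
    rw [one_mul, Nat.sub_add_cancel hd] at this
    exact (MvPolynomial.mem_homogeneousSubmodule d _).mpr this⟩

theorem eqA_pw {j : Fin (r + 1)} (hj : x j = 1) : eqA x (pw j d : Form r k d) = 1 := by
  simp [eqA, pw, hj]

theorem eqA_pwl {j : Fin (r + 1)} (hj : x j = 1) (l : Fin (r + 1)) (hd : 1 ≤ d) :
    eqA x (pwl j l d hd : Form r k d) = x l := by
  simp [eqA, pwl, hj]

theorem exists_section [Module.Finite k (Form r k d)] [Module.Projective A Ω[A⁄k]] (hd : 1 ≤ d)
    (hgen : Algebra.adjoin k (Set.range x) = ⊤) (j : Fin (r + 1)) (hj : x j = 1)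
    (f : Form r k d → k) (hf : IsPolyFun k f) (H₀ : Form r k d) (ε₀ : A →ₐ[k] k) (h1 : ε₀ (eqA x H₀) = 0)
    (h2 : ∀ D' : Derivation k A A, ε₀ (D' (eqA x H₀)) = 0) (hfH : f H₀ ≠ 0) :
    ∃ F : A, ε₀ F ≠ 0 ∧ ∀ ε : A →ₐ[k] k, ε F ≠ 0 →
      ∃ H : Form r k d, f H ≠ 0 ∧ ε (eqA x H) = 0 ∧ ∀ D' : Derivation k A A, ε (D' (eqA x H)) = 0 := by
  obtain ⟨E, hE⟩ := exists_derivations x hgen
  let b := Module.finBasis k (Form r k d)
  obtain ⟨P, hP⟩ := exists_ev b hf
  let c (s : Fin (Module.finrank k (Form r k d))) : A :=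
    algebraMap k A (b.repr H₀ s) - eqA x H₀ * algebraMap k A (b.repr (pw j d) s) -
      ∑ l, E l (eqA x H₀) * (algebraMap k A (b.repr (pwl j l d hd) s) - x l * algebraMap k A (b.repr (pw j d) s))
  let HH (ε : A →ₐ[k] k) : Form r k d :=
    H₀ - ε (eqA x H₀) • pw j d - ∑ l, ε (E l (eqA x H₀)) • (pwl j l d hd - ε (x l) • pw j d)
  have hc (ε : A →ₐ[k] k) (s) : ε (c s) = b.repr (HH ε) s := by
    simp only [c, HH, map_sub, map_mul, map_sum, AlgHom.commutes, Algebra.algebraMap_self, RingHom.id_apply,
      map_smul, Finsupp.coe_sub, Pi.sub_apply, Finsupp.coe_smul, Pi.smul_apply, smul_eq_mul,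
      Finsupp.coe_finsetSum, Finset.sum_apply]
  let F : A := MvPolynomial.aeval c P
  have hF (ε : A →ₐ[k] k) : ε F = f (HH ε) := by
    rw [hP, ev]
    change (ε.comp (MvPolynomial.aeval c)) P = _
    congr 1
    ext s
    simp [hc]
  have hH₀ : HH ε₀ = H₀ := by
    simp [HH, h1, h2]
  refine ⟨F, ?_, fun ε hε => ⟨HH ε, ?_, ?_, fun D' => ?_⟩⟩
  · rw [hF, hH₀]
    exact hfH
  · rwa [← hF]
  · simp only [HH, eqA_sub, eqA_smul, eqA_sum, eqA_pw x hj, eqA_pwl x hj, map_sub, map_smul, map_sum, map_one,
      smul_eq_mul, mul_one, sub_self, mul_zero, Finset.sum_const_zero]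
  · simp only [HH, eqA_sub, eqA_smul, eqA_sum, eqA_pw x hj, eqA_pwl x hj, map_sub, map_smul, map_sum,
      Derivation.map_one_eq_zero, smul_zero, sub_zero, Derivation.map_smul]
    rw [hE D' (eqA x H₀)]
    simp

end Groth.Agent.Lefpen.H727.Section
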